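import Cfsg.Agent.Lib.CosetCert.D.OnJ1.Tbl
import Cfsg.Agent.Lib.CosetCert.D.OnJ1.Dg.CT

namespace Cfsg.Agent.Lib.CosetCert.D.OnJ1.Dg.Tab

open Cfsg.Agent.Lib.CosetCert Cfsg.Agent.Lib.TC.Core Cfsg.Agent.Lib.TC.Enc Cfsg.Agent.Lib.TC.Pres Cfsg.Agent.Lib.TC.Perm Cfsg.Agent.Lib.TC.Main

set_option maxRecDepth 100000

open Cfsg.Agent.Lib.CosetCert.D.OnJ1.Tbl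

/-- The chunks. -/
noncomputable def ctree : Tr Nat := Cfsg.Agent.Lib.CosetCert.D.OnJ1.Dg.CT.tree

/-- The relator rotations. -/
noncomputable def rotT : Tr (List Nat) := (Tr.node (Tr.node (Tr.node (Tr.node (Tr.node (Tr.node (Tr.node (Tr.leaf []) (Tr.leaf [1,0,2,0,1,0,2,0,1,0,2,0,1,0,2,0,1,0,2,0,1,0,2,0,1,0,1,0,2,0,2,0,1,0,1,0,2,0,1,0,2,0,1,0,2,0,1,0,2,0,1,0,2,0,1,0,2,0,1,0,1,0,2,0,2,0,1,0])) (Tr.node (Tr.leaf [0,1,0,1,0,2,0,1,0,2,0,1,0,2,0,1,0,1,0,2,0,1,0,2,0,1,0,2,0,1,0,1,0,2,0,1,0,2,0,1,0,2,0,1,0,1,0,2,0,1,0,2,0,1,0,2,0,1,0,1,0,2,0,1,0,2,0,1,0,2]) (Tr.leaf [0,2,0,1,0,2,0,1,0,2,0,1,0,2,0,1,0,2,0,1,0,2,0,1,0,2,0,2,0,1,0,1,0,2,0,2,0,1,0,2,0,1,0,2,0,1,0,2,0,1,0,2,0,1,0,2,0,1,0,2,0,2,0,1,0,1,0,2])))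 (Tr.node (Tr.node (Tr.leaf [2,0,2,0,2,0,2,0,2,0,2,0,2,0]) (Tr.leaf [2,0,1,0,2,0,1,0,1,0,2,0,2,0,1,0,1,0,2,0,1,0,2,0,1,0,2,0,1,0,2,0,1,0,2,0,1,0,2,0,1,0,1,0,2,0,2,0,1,0,1,0,2,0,1,0,2,0,1,0,2,0,1,0,2,0,1,0])) (Tr.node (Tr.leaf [0,2,0,2,0,1,0,2,0,1,0,2,0,1,0,2,0,2,0,1,0,2,0,1,0,2,0,1,0,2,0,2,0,1,0,2,0,1,0,2,0,1,0,2,0,2,0,1,0,2,0,1,0,2,0,1,0,2,0,2,0,1,0,2,0,1,0,2,0,1]) (Tr.leaf [2,0,2,0,1,0,1,0,2,0,2,0,1,0,2,0,1,0,2,0,1,0,2,0,1,0,2,0,1,0,2,0,1,0,2,0,2,0,1,0,1,0,2,0,2,0,1,0,2,0,1,0,2,0,1,0,2,0,1,0,2,0,1,0,2,0,1,0])))) (Tr.node (Tr.node (Tr.node (Tr.leaf [0,2,0,2,0,2,0,2,0,2,0,2,0,2]) (Tr.leaf [1,0,2,0,1,0,2,0,1,0,2,0,1,0,2,0,1,0,1,0,2,0,2,0,1,0,1,0,2,0,1,0,2,0,1,0,2,0,1,0,2,0,1,0,2,0,1,0,2,0,1,0,1,0,2,0,2,0,1,0,1,0,2,0,1,0,2,0]))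 (Tr.node (Tr.leaf [0,2,0,1,0,2,0,1,0,2,0,2,0,1,0,2,0,1,0,2,0,1,0,2,0,2,0,1,0,2,0,1,0,2,0,1,0,2,0,2,0,1,0,2,0,1,0,2,0,1,0,2,0,2,0,1,0,2,0,1,0,2,0,1,0,2,0,2,0,1]) (Tr.leaf [2,0,2,0,1,0,1,0,2,0,2,0,1,0,2,0,1,0,2,0,1,0,2,0,1,0,2,0,1,0,2,0,1,0,2,0,2,0,1,0,1,0,2,0,2,0,1,0,2,0,1,0,2,0,1,0,2,0,1,0,2,0,1,0,2,0,1,0]))) (Tr.node (Tr.node (Tr.leaf [0,1,0,2,0,1,0,2,0,1,0,1,0,2,0,1,0,2,0,1,0,2,0,1,0,1,0,2,0,1,0,2,0,1,0,2,0,1,0,1,0,2,0,1,0,2,0,1,0,2,0,1,0,1,0,2,0,1,0,2,0,1,0,2,0,1,0,1,0,2]) (Tr.leaf [2,0,1,0,2,0,1,0,2,0,1,0,2,0,1,0,2,0,1,0,2,0,1,0,1,0,2,0,2,0,1,0,1,0,2,0,1,0,2,0,1,0,2,0,1,0,2,0,1,0,2,0,1,0,2,0,1,0,1,0,2,0,2,0,1,0,1,0])) (Tr.node (Tr.leaf [0,1,0,2,0,1,0,2,0,2,0,1,0,2,0,1,0,2,0,1,0,2,0,2,0,1,0,2,0,1,0,2,0,1,0,2,0,2,0,1,0,2,0,1,0,2,0,1,0,2,0,2,0,1,0,2,0,1,0,2,0,1,0,2,0,2,0,1,0,2])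 (Tr.leaf []))))) (Tr.node (Tr.node (Tr.node (Tr.node (Tr.leaf [1,0,1,0,1,0,1,0,1,0,1,0,1,0]) (Tr.leaf [1,0,2,0,1,0,2,0,1,0,2,0,1,0,2,0,1,0,2,0,1,0,1,0,2,0,2,0,1,0,1,0,2,0,1,0,2,0,1,0,2,0,1,0,2,0,1,0,2,0,1,0,2,0,1,0,1,0,2,0,2,0,1,0,1,0,2,0])) (Tr.node (Tr.leaf [0,2,0,1,0,2,0,1,0,1,0,2,0,1,0,2,0,1,0,2,0,1,0,1,0,2,0,1,0,2,0,1,0,2,0,1,0,1,0,2,0,1,0,2,0,1,0,2,0,1,0,1,0,2,0,1,0,2,0,1,0,2,0,1,0,1,0,2,0,1]) (Tr.leaf [0,2,0,1,0,2,0,1,0,2,0,1,0,2,0,1,0,2,0,2,0,1,0,1,0,2,0,2,0,1,0,2,0,1,0,2,0,1,0,2,0,1,0,2,0,1,0,2,0,1,0,2,0,2,0,1,0,1,0,2,0,2,0,1,0,2,0,1]))) (Tr.node (Tr.node (Tr.leaf [0,1,0,2,0,1,0,2,0,1,0,2,0,1,0,1,0,2,0,1,0,2,0,1,0,2,0,1,0,1,0,2,0,1,0,2,0,1,0,2,0,1,0,1,0,2,0,1,0,2,0,1,0,2,0,1,0,1,0,2,0,1,0,2,0,1,0,2,0,1])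 (Tr.leaf [1,0,2,0,2,0,1,0,1,0,2,0,1,0,2,0,1,0,2,0,1,0,2,0,1,0,2,0,1,0,2,0,1,0,1,0,2,0,2,0,1,0,1,0,2,0,1,0,2,0,1,0,2,0,1,0,2,0,1,0,2,0,1,0,2,0,1,0])) (Tr.node (Tr.leaf [0,1,0,2,0,1,0,2,0,1,0,2,0,2,0,1,0,2,0,1,0,2,0,1,0,2,0,2,0,1,0,2,0,1,0,2,0,1,0,2,0,2,0,1,0,2,0,1,0,2,0,1,0,2,0,2,0,1,0,2,0,1,0,2,0,1,0,2,0,2]) (Tr.leaf [0,0])))) (Tr.node (Tr.node (Tr.node (Tr.leaf [2,0,2,0,2,0,2,0,2,0,2,0,2,0]) (Tr.leaf [1,0,2,0,1,0,2,0,1,0,2,0,1,0,1,0,2,0,2,0,1,0,1,0,2,0,1,0,2,0,1,0,2,0,1,0,2,0,1,0,2,0,1,0,2,0,1,0,1,0,2,0,2,0,1,0,1,0,2,0,1,0,2,0,1,0,2,0])) (Tr.node (Tr.leaf [0,2,0,1,0,2,0,2,0,1,0,2,0,1,0,2,0,1,0,2,0,2,0,1,0,2,0,1,0,2,0,1,0,2,0,2,0,1,0,2,0,1,0,2,0,1,0,2,0,2,0,1,0,2,0,1,0,2,0,1,0,2,0,2,0,1,0,2,0,1])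 (Tr.leaf [2,0,1,0,2,0,1,0,2,0,1,0,2,0,1,0,2,0,1,0,2,0,2,0,1,0,1,0,2,0,2,0,1,0,2,0,1,0,2,0,1,0,2,0,1,0,2,0,1,0,2,0,1,0,2,0,2,0,1,0,1,0,2,0,2,0,1,0]))) (Tr.node (Tr.node (Tr.leaf [0,1,0,2,0,1,0,1,0,2,0,1,0,2,0,1,0,2,0,1,0,1,0,2,0,1,0,2,0,1,0,2,0,1,0,1,0,2,0,1,0,2,0,1,0,2,0,1,0,1,0,2,0,1,0,2,0,1,0,2,0,1,0,1,0,2,0,1,0,2]) (Tr.leaf [0,2,0,1,0,2,0,1,0,1,0,2,0,2,0,1,0,1,0,2,0,1,0,2,0,1,0,2,0,1,0,2,0,1,0,2,0,1,0,2,0,1,0,1,0,2,0,2,0,1,0,1,0,2,0,1,0,2,0,1,0,2,0,1,0,2,0,1])) (Tr.node (Tr.leaf [1,0,2,0,1,0,2,0,2,0,1,0,2,0,1,0,2,0,1,0,2,0,2,0,1,0,2,0,1,0,2,0,1,0,2,0,2,0,1,0,2,0,1,0,2,0,1,0,2,0,2,0,1,0,2,0,1,0,2,0,1,0,2,0,2,0,1,0,2,0]) (Tr.leaf [])))))) (Tr.node (Tr.node (Tr.node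 (Tr.node (Tr.node (Tr.leaf [2,2,2]) (Tr.leaf [2,0,1,0,2,0,1,0,2,0,1,0,2,0,1,0,2,0,1,0,2,0,1,0,1,0,2,0,2,0,1,0,1,0,2,0,1,0,2,0,1,0,2,0,1,0,2,0,1,0,2,0,1,0,2,0,1,0,1,0,2,0,2,0,1,0,1,0])) (Tr.node (Tr.leaf [0,2,0,1,0,1,0,2,0,1,0,2,0,1,0,2,0,1,0,1,0,2,0,1,0,2,0,1,0,2,0,1,0,1,0,2,0,1,0,2,0,1,0,2,0,1,0,1,0,2,0,1,0,2,0,1,0,2,0,1,0,1,0,2,0,1,0,2,0,1]) (Tr.leaf [2,0,1,0,2,0,1,0,2,0,1,0,2,0,1,0,2,0,1,0,2,0,2,0,1,0,1,0,2,0,2,0,1,0,2,0,1,0,2,0,1,0,2,0,1,0,2,0,1,0,2,0,1,0,2,0,2,0,1,0,1,0,2,0,2,0,1,0]))) (Tr.node (Tr.node (Tr.leaf [0,1,0,1,0,2,0,1,0,2,0,1,0,2,0,1,0,1,0,2,0,1,0,2,0,1,0,2,0,1,0,1,0,2,0,1,0,2,0,1,0,2,0,1,0,1,0,2,0,1,0,2,0,1,0,2,0,1,0,1,0,2,0,1,0,2,0,1,0,2]) (Tr.leaf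 [1,0,2,0,1,0,1,0,2,0,2,0,1,0,1,0,2,0,1,0,2,0,1,0,2,0,1,0,2,0,1,0,2,0,1,0,2,0,1,0,1,0,2,0,2,0,1,0,1,0,2,0,1,0,2,0,1,0,2,0,1,0,2,0,1,0,2,0])) (Tr.node (Tr.leaf [0,2,0,1,0,2,0,1,0,2,0,1,0,2,0,2,0,1,0,2,0,1,0,2,0,1,0,2,0,2,0,1,0,2,0,1,0,2,0,1,0,2,0,2,0,1,0,2,0,1,0,2,0,1,0,2,0,2,0,1,0,2,0,1,0,2,0,1,0,2]) (Tr.leaf [2,0,1,0,2,0,1,0,2,0,1,0,2,0,1,0,2,0,1,0,2,0,1,0,2,0,1,0,2,0,1,0,2,0,1,0,2,0,1,0,2,0,1,0,2,0,1,0,2,0,1,0,2,0,1,0,2,0,1,0,2,0,1,0,2,0,1,0,2,0,1,0,2,0,1,0])))) (Tr.node (Tr.node (Tr.node (Tr.leaf [2,0,2,0,2,0,2,0,2,0,2,0,2,0]) (Tr.leaf [2,0,1,0,2,0,1,0,2,0,1,0,2,0,1,0,1,0,2,0,2,0,1,0,1,0,2,0,1,0,2,0,1,0,2,0,1,0,2,0,1,0,2,0,1,0,2,0,1,0,1,0,2,0,2,0,1,0,1,0,2,0,1,0,2,0,1,0]))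 (Tr.node (Tr.leaf [0,1,0,2,0,1,0,2,0,2,0,1,0,2,0,1,0,2,0,1,0,2,0,2,0,1,0,2,0,1,0,2,0,1,0,2,0,2,0,1,0,2,0,1,0,2,0,1,0,2,0,2,0,1,0,2,0,1,0,2,0,1,0,2,0,2,0,1,0,2]) (Tr.leaf [0,1,0,1,0,2,0,2,0,1,0,2,0,1,0,2,0,1,0,2,0,1,0,2,0,1,0,2,0,1,0,2,0,2,0,1,0,1,0,2,0,2,0,1,0,2,0,1,0,2,0,1,0,2,0,1,0,2,0,1,0,2,0,1,0,2,0,2]))) (Tr.node (Tr.node (Tr.leaf [0,2,0,1,0,2,0,1,0,1,0,2,0,1,0,2,0,1,0,2,0,1,0,1,0,2,0,1,0,2,0,1,0,2,0,1,0,1,0,2,0,1,0,2,0,1,0,2,0,1,0,1,0,2,0,1,0,2,0,1,0,2,0,1,0,1,0,2,0,1]) (Tr.leaf [2,0,1,0,2,0,1,0,2,0,1,0,2,0,1,0,1,0,2,0,2,0,1,0,1,0,2,0,1,0,2,0,1,0,2,0,1,0,2,0,1,0,2,0,1,0,2,0,1,0,1,0,2,0,2,0,1,0,1,0,2,0,1,0,2,0,1,0])) (Tr.node (Tr.leaf [0,1,0,2,0,1,0,2,0,2,0,1,0,2,0,1,0,2,0,1,0,2,0,2,0,1,0,2,0,1,0,2,0,1,0,2,0,2,0,1,0,2,0,1,0,2,0,1,0,2,0,2,0,1,0,2,0,1,0,2,0,1,0,2,0,2,0,1,0,2])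 (Tr.leaf []))))) (Tr.node (Tr.node (Tr.node (Tr.node (Tr.leaf [0,1,0,1,0,1,0,1,0,1,0,1,0,1]) (Tr.leaf [2,0,1,0,2,0,1,0,2,0,1,0,2,0,1,0,2,0,1,0,1,0,2,0,2,0,1,0,1,0,2,0,1,0,2,0,1,0,2,0,1,0,2,0,1,0,2,0,1,0,2,0,1,0,1,0,2,0,2,0,1,0,1,0,2,0,1,0])) (Tr.node (Tr.leaf [0,2,0,1,0,2,0,1,0,1,0,2,0,1,0,2,0,1,0,2,0,1,0,1,0,2,0,1,0,2,0,1,0,2,0,1,0,1,0,2,0,1,0,2,0,1,0,2,0,1,0,1,0,2,0,1,0,2,0,1,0,2,0,1,0,1,0,2,0,1]) (Tr.leaf [2,0,1,0,2,0,1,0,2,0,1,0,2,0,2,0,1,0,1,0,2,0,2,0,1,0,2,0,1,0,2,0,1,0,2,0,1,0,2,0,1,0,2,0,1,0,2,0,2,0,1,0,1,0,2,0,2,0,1,0,2,0,1,0,2,0,1,0]))) (Tr.node (Tr.node (Tr.leaf [0,2,0,1,0,2,0,1,0,2,0,1,0,1,0,2,0,1,0,2,0,1,0,2,0,1,0,1,0,2,0,1,0,2,0,1,0,2,0,1,0,1,0,2,0,1,0,2,0,1,0,2,0,1,0,1,0,2,0,1,0,2,0,1,0,2,0,1,0,1])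 (Tr.leaf [0,2,0,1,0,1,0,2,0,1,0,2,0,1,0,2,0,1,0,2,0,1,0,2,0,1,0,2,0,1,0,1,0,2,0,2,0,1,0,1,0,2,0,1,0,2,0,1,0,2,0,1,0,2,0,1,0,2,0,1,0,2,0,1,0,1,0,2])) (Tr.node (Tr.leaf [2,0,1,0,2,0,1,0,2,0,2,0,1,0,2,0,1,0,2,0,1,0,2,0,2,0,1,0,2,0,1,0,2,0,1,0,2,0,2,0,1,0,2,0,1,0,2,0,1,0,2,0,2,0,1,0,2,0,1,0,2,0,1,0,2,0,2,0,1,0]) (Tr.leaf [2,1])))) (Tr.node (Tr.node (Tr.node (Tr.leaf [2,0,2,0,2,0,2,0,2,0,2,0,2,0]) (Tr.leaf [0,1,0,2,0,1,0,2,0,1,0,1,0,2,0,2,0,1,0,1,0,2,0,1,0,2,0,1,0,2,0,1,0,2,0,1,0,2,0,1,0,2,0,1,0,1,0,2,0,2,0,1,0,1,0,2,0,1,0,2,0,1,0,2,0,1,0,2])) (Tr.node (Tr.leaf [0,1,0,2,0,2,0,1,0,2,0,1,0,2,0,1,0,2,0,2,0,1,0,2,0,1,0,2,0,1,0,2,0,2,0,1,0,2,0,1,0,2,0,1,0,2,0,2,0,1,0,2,0,1,0,2,0,1,0,2,0,2,0,1,0,2,0,1,0,2])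 (Tr.leaf [2,0,1,0,2,0,1,0,2,0,2,0,1,0,1,0,2,0,2,0,1,0,2,0,1,0,2,0,1,0,2,0,1,0,2,0,1,0,2,0,1,0,2,0,2,0,1,0,1,0,2,0,2,0,1,0,2,0,1,0,2,0,1,0,2,0,1,0]))) (Tr.node (Tr.node (Tr.leaf [0,2,0,1,0,1,0,2,0,1,0,2,0,1,0,2,0,1,0,1,0,2,0,1,0,2,0,1,0,2,0,1,0,1,0,2,0,1,0,2,0,1,0,2,0,1,0,1,0,2,0,1,0,2,0,1,0,2,0,1,0,1,0,2,0,1,0,2,0,1]) (Tr.leaf [1,0,1,0,2,0,2,0,1,0,2,0,1,0,2,0,1,0,2,0,1,0,2,0,1,0,2,0,1,0,2,0,2,0,1,0,1,0,2,0,2,0,1,0,2,0,1,0,2,0,1,0,2,0,1,0,2,0,1,0,2,0,1,0,2,0,2,0])) (Tr.node (Tr.leaf [1,0,1,0,2,0,1,0,2,0,1,0,2,0,1,0,2,0,1,0,2,0,1,0,2,0,1,0,1,0,2,0,2,0,1,0,1,0,2,0,1,0,2,0,1,0,2,0,1,0,2,0,1,0,2,0,1,0,2,0,1,0,1,0,2,0,2,0]) (Tr.leaf []))))))) (Tr.node (Tr.node (Tr.node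 (Tr.node (Tr.node (Tr.node (Tr.leaf [1,1,1]) (Tr.leaf [0,2,0,1,0,2,0,1,0,2,0,1,0,2,0,1,0,2,0,1,0,2,0,1,0,1,0,2,0,2,0,1,0,1,0,2,0,1,0,2,0,1,0,2,0,1,0,2,0,1,0,2,0,1,0,2,0,1,0,1,0,2,0,2,0,1,0,1])) (Tr.node (Tr.leaf [0,1,0,2,0,1,0,2,0,1,0,2,0,1,0,1,0,2,0,1,0,2,0,1,0,2,0,1,0,1,0,2,0,1,0,2,0,1,0,2,0,1,0,1,0,2,0,1,0,2,0,1,0,2,0,1,0,1,0,2,0,1,0,2,0,1,0,2,0,1]) (Tr.leaf [2,0,1,0,2,0,1,0,2,0,1,0,2,0,1,0,2,0,1,0,2,0,1,0,2,0,2,0,1,0,1,0,2,0,2,0,1,0,2,0,1,0,2,0,1,0,2,0,1,0,2,0,1,0,2,0,1,0,2,0,2,0,1,0,1,0,2,0]))) (Tr.node (Tr.node (Tr.leaf [0,2,0,2,0,2,0,2,0,2,0,2,0,2]) (Tr.leaf [0,1,0,2,0,1,0,1,0,2,0,2,0,1,0,1,0,2,0,1,0,2,0,1,0,2,0,1,0,2,0,1,0,2,0,1,0,2,0,1,0,1,0,2,0,2,0,1,0,1,0,2,0,1,0,2,0,1,0,2,0,1,0,2,0,1,0,2]))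 (Tr.node (Tr.leaf [2,0,2,0,1,0,2,0,1,0,2,0,1,0,2,0,2,0,1,0,2,0,1,0,2,0,1,0,2,0,2,0,1,0,2,0,1,0,2,0,1,0,2,0,2,0,1,0,2,0,1,0,2,0,1,0,2,0,2,0,1,0,2,0,1,0,2,0,1,0]) (Tr.leaf [0,1,0,1,0,2,0,2,0,1,0,2,0,1,0,2,0,1,0,2,0,1,0,2,0,1,0,2,0,1,0,2,0,2,0,1,0,1,0,2,0,2,0,1,0,2,0,1,0,2,0,1,0,2,0,1,0,2,0,1,0,2,0,1,0,2,0,2])))) (Tr.node (Tr.node (Tr.node (Tr.leaf [2,0,2,0,2,0,2,0,2,0,2,0,2,0]) (Tr.leaf [0,2,0,1,0,2,0,1,0,2,0,1,0,2,0,1,0,1,0,2,0,2,0,1,0,1,0,2,0,1,0,2,0,1,0,2,0,1,0,2,0,1,0,2,0,1,0,2,0,1,0,1,0,2,0,2,0,1,0,1,0,2,0,1,0,2,0,1])) (Tr.node (Tr.leaf [2,0,1,0,2,0,1,0,2,0,2,0,1,0,2,0,1,0,2,0,1,0,2,0,2,0,1,0,2,0,1,0,2,0,1,0,2,0,2,0,1,0,2,0,1,0,2,0,1,0,2,0,2,0,1,0,2,0,1,0,2,0,1,0,2,0,2,0,1,0])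 (Tr.leaf [2,0,1,0,1,0,2,0,2,0,1,0,2,0,1,0,2,0,1,0,2,0,1,0,2,0,1,0,2,0,1,0,2,0,2,0,1,0,1,0,2,0,2,0,1,0,2,0,1,0,2,0,1,0,2,0,1,0,2,0,1,0,2,0,1,0,2,0]))) (Tr.node (Tr.node (Tr.leaf [1,0,2,0,1,0,2,0,1,0,1,0,2,0,1,0,2,0,1,0,2,0,1,0,1,0,2,0,1,0,2,0,1,0,2,0,1,0,1,0,2,0,1,0,2,0,1,0,2,0,1,0,1,0,2,0,1,0,2,0,1,0,2,0,1,0,1,0,2,0]) (Tr.leaf [2,0,1,0,2,0,1,0,2,0,1,0,2,0,1,0,2,0,1,0,1,0,2,0,2,0,1,0,1,0,2,0,1,0,2,0,1,0,2,0,1,0,2,0,1,0,2,0,1,0,2,0,1,0,1,0,2,0,2,0,1,0,1,0,2,0,1,0])) (Tr.node (Tr.leaf [2,0,2,0,1,0,2,0,1,0,2,0,1,0,2,0,2,0,1,0,2,0,1,0,2,0,1,0,2,0,2,0,1,0,2,0,1,0,2,0,1,0,2,0,2,0,1,0,2,0,1,0,2,0,1,0,2,0,2,0,1,0,2,0,1,0,2,0,1,0]) (Tr.leaf []))))) (Tr.node (Tr.node (Tr.node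 (Tr.node (Tr.leaf [0,1,0,1,0,1,0,1,0,1,0,1,0,1]) (Tr.leaf [0,2,0,1,0,2,0,1,0,2,0,1,0,2,0,1,0,2,0,1,0,1,0,2,0,2,0,1,0,1,0,2,0,1,0,2,0,1,0,2,0,1,0,2,0,1,0,2,0,1,0,2,0,1,0,1,0,2,0,2,0,1,0,1,0,2,0,1])) (Tr.node (Tr.leaf [0,2,0,1,0,2,0,1,0,2,0,1,0,1,0,2,0,1,0,2,0,1,0,2,0,1,0,1,0,2,0,1,0,2,0,1,0,2,0,1,0,1,0,2,0,1,0,2,0,1,0,2,0,1,0,1,0,2,0,1,0,2,0,1,0,2,0,1,0,1]) (Tr.leaf [2,0,1,0,2,0,1,0,2,0,1,0,2,0,1,0,2,0,2,0,1,0,1,0,2,0,2,0,1,0,2,0,1,0,2,0,1,0,2,0,1,0,2,0,1,0,2,0,1,0,2,0,2,0,1,0,1,0,2,0,2,0,1,0,2,0,1,0]))) (Tr.node (Tr.node (Tr.leaf [1,0,2,0,1,0,2,0,1,0,2,0,1,0,1,0,2,0,1,0,2,0,1,0,2,0,1,0,1,0,2,0,1,0,2,0,1,0,2,0,1,0,1,0,2,0,1,0,2,0,1,0,2,0,1,0,1,0,2,0,1,0,2,0,1,0,2,0,1,0])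 (Tr.leaf [0,2,0,2,0,1,0,1,0,2,0,1,0,2,0,1,0,2,0,1,0,2,0,1,0,2,0,1,0,2,0,1,0,1,0,2,0,2,0,1,0,1,0,2,0,1,0,2,0,1,0,2,0,1,0,2,0,1,0,2,0,1,0,2,0,1,0,1])) (Tr.node (Tr.leaf [1,0,2,0,1,0,2,0,1,0,2,0,2,0,1,0,2,0,1,0,2,0,1,0,2,0,2,0,1,0,2,0,1,0,2,0,1,0,2,0,2,0,1,0,2,0,1,0,2,0,1,0,2,0,2,0,1,0,2,0,1,0,2,0,1,0,2,0,2,0]) (Tr.leaf [1,2])))) (Tr.node (Tr.node (Tr.node (Tr.leaf [0,2,0,2,0,2,0,2,0,2,0,2,0,2]) (Tr.leaf [0,2,0,1,0,2,0,1,0,2,0,1,0,1,0,2,0,2,0,1,0,1,0,2,0,1,0,2,0,1,0,2,0,1,0,2,0,1,0,2,0,1,0,2,0,1,0,1,0,2,0,2,0,1,0,1,0,2,0,1,0,2,0,1,0,2,0,1])) (Tr.node (Tr.leaf [2,0,1,0,2,0,2,0,1,0,2,0,1,0,2,0,1,0,2,0,2,0,1,0,2,0,1,0,2,0,1,0,2,0,2,0,1,0,2,0,1,0,2,0,1,0,2,0,2,0,1,0,2,0,1,0,2,0,1,0,2,0,2,0,1,0,2,0,1,0])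 (Tr.leaf [2,0,1,0,2,0,1,0,2,0,1,0,2,0,1,0,2,0,2,0,1,0,1,0,2,0,2,0,1,0,2,0,1,0,2,0,1,0,2,0,1,0,2,0,1,0,2,0,1,0,2,0,2,0,1,0,1,0,2,0,2,0,1,0,2,0,1,0]))) (Tr.node (Tr.node (Tr.leaf [1,0,2,0,1,0,1,0,2,0,1,0,2,0,1,0,2,0,1,0,1,0,2,0,1,0,2,0,1,0,2,0,1,0,1,0,2,0,1,0,2,0,1,0,2,0,1,0,1,0,2,0,1,0,2,0,1,0,2,0,1,0,1,0,2,0,1,0,2,0]) (Tr.leaf [1,0,1,0,2,0,2,0,1,0,1,0,2,0,1,0,2,0,1,0,2,0,1,0,2,0,1,0,2,0,1,0,2,0,1,0,1,0,2,0,2,0,1,0,1,0,2,0,1,0,2,0,1,0,2,0,1,0,2,0,1,0,2,0,1,0,2,0])) (Tr.node (Tr.leaf [2,0,1,0,2,0,2,0,1,0,2,0,1,0,2,0,1,0,2,0,2,0,1,0,2,0,1,0,2,0,1,0,2,0,2,0,1,0,2,0,1,0,2,0,1,0,2,0,2,0,1,0,2,0,1,0,2,0,1,0,2,0,2,0,1,0,2,0,1,0]) (Tr.leaf [])))))) (Tr.node (Tr.node (Tr.node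 (Tr.node (Tr.node (Tr.leaf [2,2,2]) (Tr.leaf [0,1,0,2,0,1,0,2,0,1,0,2,0,1,0,2,0,1,0,2,0,1,0,1,0,2,0,2,0,1,0,1,0,2,0,1,0,2,0,1,0,2,0,1,0,2,0,1,0,2,0,1,0,2,0,1,0,1,0,2,0,2,0,1,0,1,0,2])) (Tr.node (Tr.leaf [2,0,1,0,1,0,2,0,1,0,2,0,1,0,2,0,1,0,1,0,2,0,1,0,2,0,1,0,2,0,1,0,1,0,2,0,1,0,2,0,1,0,2,0,1,0,1,0,2,0,1,0,2,0,1,0,2,0,1,0,1,0,2,0,1,0,2,0,1,0]) (Tr.leaf [1,0,2,0,1,0,2,0,1,0,2,0,1,0,2,0,1,0,2,0,2,0,1,0,1,0,2,0,2,0,1,0,2,0,1,0,2,0,1,0,2,0,1,0,2,0,1,0,2,0,1,0,2,0,2,0,1,0,1,0,2,0,2,0,1,0,2,0]))) (Tr.node (Tr.node (Tr.leaf [1,0,1,0,2,0,1,0,2,0,1,0,2,0,1,0,1,0,2,0,1,0,2,0,1,0,2,0,1,0,1,0,2,0,1,0,2,0,1,0,2,0,1,0,1,0,2,0,1,0,2,0,1,0,2,0,1,0,1,0,2,0,1,0,2,0,1,0,2,0]) (Tr.leaf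 [0,2,0,1,0,1,0,2,0,2,0,1,0,1,0,2,0,1,0,2,0,1,0,2,0,1,0,2,0,1,0,2,0,1,0,2,0,1,0,1,0,2,0,2,0,1,0,1,0,2,0,1,0,2,0,1,0,2,0,1,0,2,0,1,0,2,0,1])) (Tr.node (Tr.leaf [2,0,1,0,2,0,1,0,2,0,1,0,2,0,2,0,1,0,2,0,1,0,2,0,1,0,2,0,2,0,1,0,2,0,1,0,2,0,1,0,2,0,2,0,1,0,2,0,1,0,2,0,1,0,2,0,2,0,1,0,2,0,1,0,2,0,1,0,2,0]) (Tr.leaf [0,2,0,1,0,2,0,1,0,2,0,1,0,2,0,1,0,2,0,1,0,2,0,1,0,2,0,1,0,2,0,1,0,2,0,1,0,2,0,1,0,2,0,1,0,2,0,1,0,2,0,1,0,2,0,1,0,2,0,1,0,2,0,1,0,2,0,1,0,2,0,1,0,2,0,1])))) (Tr.node (Tr.node (Tr.node (Tr.leaf [0,2,0,2,0,2,0,2,0,2,0,2,0,2]) (Tr.leaf [0,1,0,2,0,1,0,2,0,1,0,2,0,1,0,1,0,2,0,2,0,1,0,1,0,2,0,1,0,2,0,1,0,2,0,1,0,2,0,1,0,2,0,1,0,2,0,1,0,1,0,2,0,2,0,1,0,1,0,2,0,1,0,2,0,1,0,2]))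 (Tr.node (Tr.leaf [1,0,2,0,1,0,2,0,2,0,1,0,2,0,1,0,2,0,1,0,2,0,2,0,1,0,2,0,1,0,2,0,1,0,2,0,2,0,1,0,2,0,1,0,2,0,1,0,2,0,2,0,1,0,2,0,1,0,2,0,1,0,2,0,2,0,1,0,2,0]) (Tr.leaf [1,0,1,0,2,0,2,0,1,0,2,0,1,0,2,0,1,0,2,0,1,0,2,0,1,0,2,0,1,0,2,0,2,0,1,0,1,0,2,0,2,0,1,0,2,0,1,0,2,0,1,0,2,0,1,0,2,0,1,0,2,0,1,0,2,0,2,0]))) (Tr.node (Tr.node (Tr.leaf [2,0,1,0,2,0,1,0,1,0,2,0,1,0,2,0,1,0,2,0,1,0,1,0,2,0,1,0,2,0,1,0,2,0,1,0,1,0,2,0,1,0,2,0,1,0,2,0,1,0,1,0,2,0,1,0,2,0,1,0,2,0,1,0,1,0,2,0,1,0]) (Tr.leaf [1,0,2,0,1,0,2,0,1,0,2,0,1,0,1,0,2,0,2,0,1,0,1,0,2,0,1,0,2,0,1,0,2,0,1,0,2,0,1,0,2,0,1,0,2,0,1,0,1,0,2,0,2,0,1,0,1,0,2,0,1,0,2,0,1,0,2,0])) (Tr.node (Tr.leaf [2,0,1,0,2,0,1,0,2,0,2,0,1,0,2,0,1,0,2,0,1,0,2,0,2,0,1,0,2,0,1,0,2,0,1,0,2,0,2,0,1,0,2,0,1,0,2,0,1,0,2,0,2,0,1,0,2,0,1,0,2,0,1,0,2,0,2,0,1,0])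 (Tr.leaf []))))) (Tr.node (Tr.node (Tr.node (Tr.node (Tr.leaf [2,0,2,0,2,0,2,0,2,0,2,0,2,0]) (Tr.leaf [0,1,0,2,0,1,0,2,0,1,0,2,0,1,0,2,0,1,0,1,0,2,0,2,0,1,0,1,0,2,0,1,0,2,0,1,0,2,0,1,0,2,0,1,0,2,0,1,0,2,0,1,0,1,0,2,0,2,0,1,0,1,0,2,0,1,0,2])) (Tr.node (Tr.leaf [2,0,1,0,2,0,1,0,1,0,2,0,1,0,2,0,1,0,2,0,1,0,1,0,2,0,1,0,2,0,1,0,2,0,1,0,1,0,2,0,1,0,2,0,1,0,2,0,1,0,1,0,2,0,1,0,2,0,1,0,2,0,1,0,1,0,2,0,1,0]) (Tr.leaf [0,2,0,1,0,2,0,2,0,1,0,1,0,2,0,2,0,1,0,2,0,1,0,2,0,1,0,2,0,1,0,2,0,1,0,2,0,1,0,2,0,2,0,1,0,1,0,2,0,2,0,1,0,2,0,1,0,2,0,1,0,2,0,1,0,2,0,1]))) (Tr.node (Tr.node (Tr.leaf [2,0,1,0,2,0,1,0,2,0,1,0,1,0,2,0,1,0,2,0,1,0,2,0,1,0,1,0,2,0,1,0,2,0,1,0,2,0,1,0,1,0,2,0,1,0,2,0,1,0,2,0,1,0,1,0,2,0,1,0,2,0,1,0,2,0,1,0,1,0])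 (Tr.leaf [0,1,0,1,0,2,0,1,0,2,0,1,0,2,0,1,0,2,0,1,0,2,0,1,0,2,0,1,0,1,0,2,0,2,0,1,0,1,0,2,0,1,0,2,0,1,0,2,0,1,0,2,0,1,0,2,0,1,0,2,0,1,0,1,0,2,0,2])) (Tr.node (Tr.leaf [1,0,2,0,2,0,1,0,2,0,1,0,2,0,1,0,2,0,2,0,1,0,2,0,1,0,2,0,1,0,2,0,2,0,1,0,2,0,1,0,2,0,1,0,2,0,2,0,1,0,2,0,1,0,2,0,1,0,2,0,2,0,1,0,2,0,1,0,2,0]) (Tr.leaf [])))) (Tr.node (Tr.node (Tr.node (Tr.leaf [2,0,2,0,2,0,2,0,2,0,2,0,2,0]) (Tr.leaf [1,0,2,0,1,0,2,0,1,0,1,0,2,0,2,0,1,0,1,0,2,0,1,0,2,0,1,0,2,0,1,0,2,0,1,0,2,0,1,0,2,0,1,0,1,0,2,0,2,0,1,0,1,0,2,0,1,0,2,0,1,0,2,0,1,0,2,0])) (Tr.node (Tr.leaf [1,0,2,0,2,0,1,0,2,0,1,0,2,0,1,0,2,0,2,0,1,0,2,0,1,0,2,0,1,0,2,0,2,0,1,0,2,0,1,0,2,0,1,0,2,0,2,0,1,0,2,0,1,0,2,0,1,0,2,0,2,0,1,0,2,0,1,0,2,0])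 (Tr.leaf [0,1,0,2,0,2,0,1,0,1,0,2,0,2,0,1,0,2,0,1,0,2,0,1,0,2,0,1,0,2,0,1,0,2,0,1,0,2,0,2,0,1,0,1,0,2,0,2,0,1,0,2,0,1,0,2,0,1,0,2,0,1,0,2,0,1,0,2]))) (Tr.node (Tr.node (Tr.leaf [2,0,1,0,1,0,2,0,1,0,2,0,1,0,2,0,1,0,1,0,2,0,1,0,2,0,1,0,2,0,1,0,1,0,2,0,1,0,2,0,1,0,2,0,1,0,1,0,2,0,1,0,2,0,1,0,2,0,1,0,1,0,2,0,1,0,2,0,1,0]) (Tr.leaf [2,0,2,0,1,0,2,0,1,0,2,0,1,0,2,0,1,0,2,0,1,0,2,0,1,0,2,0,2,0,1,0,1,0,2,0,2,0,1,0,2,0,1,0,2,0,1,0,2,0,1,0,2,0,1,0,2,0,1,0,2,0,2,0,1,0,1,0])) (Tr.node (Tr.leaf [0,1,0,2,0,1,0,2,0,1,0,2,0,1,0,2,0,1,0,2,0,1,0,2,0,1,0,1,0,2,0,2,0,1,0,1,0,2,0,1,0,2,0,1,0,2,0,1,0,2,0,1,0,2,0,1,0,2,0,1,0,1,0,2,0,2,0,1]) (Tr.leaf []))))))))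

/-- The witnesses of the rotations. -/
noncomputable def witT : Tr (Nat × Nat × Bool) := (Tr.node (Tr.node (Tr.node (Tr.node (Tr.node (Tr.node (Tr.node (Tr.leaf (0,0,false)) (Tr.leaf (4,3,false))) (Tr.node (Tr.leaf (3,14,false)) (Tr.leaf (4,5,true)))) (Tr.node (Tr.node (Tr.leaf (2,12,true)) (Tr.leaf (4,21,false))) (Tr.node (Tr.leaf (3,9,true)) (Tr.leaf (4,64,true))))) (Tr.node (Tr.node (Tr.node (Tr.leaf (2,1,true)) (Tr.leaf (4,11,false))) (Tr.node (Tr.leaf (3,1,true)) (Tr.leaf (4,30,true)))) (Tr.node (Tr.node (Tr.leaf (3,6,false)) (Tr.leaf (4,39,false))) (Tr.node (Tr.leaf (3,31,true)) (Tr.leaf (0,0,false)))))) (Tr.node (Tr.node (Tr.node (Tr.node (Tr.leaf (2,1,false))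 (Tr.leaf (4,7,false))) (Tr.node (Tr.leaf (3,36,false)) (Tr.leaf (4,13,true)))) (Tr.node (Tr.node (Tr.leaf (3,2,false)) (Tr.leaf (4,29,false))) (Tr.node (Tr.leaf (3,13,true)) (Tr.leaf (5,0,false))))) (Tr.node (Tr.node (Tr.node (Tr.leaf (2,6,true)) (Tr.leaf (4,15,false))) (Tr.node (Tr.leaf (3,5,true)) (Tr.leaf (4,44,true)))) (Tr.node (Tr.node (Tr.leaf (3,10,false)) (Tr.leaf (4,54,false))) (Tr.node (Tr.leaf (3,60,true)) (Tr.leaf (0,0,false))))))) (Tr.node (Tr.node (Tr.node (Tr.node (Tr.node (Tr.leaf (1,1,true)) (Tr.leaf (4,5,false))) (Tr.node (Tr.leaf (3,26,false)) (Tr.leaf (4,10,true)))) (Tr.node (Tr.node (Tr.leaf (3,0,false)) (Tr.leaf (4,23,false))) (Tr.node (Tr.leaf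 (3,11,true)) (Tr.leaf (0,39,false))))) (Tr.node (Tr.node (Tr.node (Tr.leaf (2,4,true)) (Tr.leaf (4,13,false))) (Tr.node (Tr.leaf (3,3,true)) (Tr.leaf (4,33,true)))) (Tr.node (Tr.node (Tr.leaf (3,8,false)) (Tr.leaf (4,47,false))) (Tr.node (Tr.leaf (3,45,true)) (Tr.leaf (0,0,false)))))) (Tr.node (Tr.node (Tr.node (Tr.node (Tr.leaf (2,6,false)) (Tr.leaf (4,9,false))) (Tr.node (Tr.leaf (3,64,false)) (Tr.leaf (4,18,true)))) (Tr.node (Tr.node (Tr.leaf (3,4,false)) (Tr.leaf (4,32,false))) (Tr.node (Tr.leaf (3,16,true)) (Tr.leaf (5,2,false))))) (Tr.node (Tr.node (Tr.node (Tr.leaf (2,8,true)) (Tr.leaf (4,18,false))) (Tr.node (Tr.leaf (3,7,true)) (Tr.leaf (4,56,true)))) (Tr.node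 (Tr.node (Tr.leaf (3,12,false)) (Tr.leaf (4,0,true))) (Tr.node (Tr.leaf (4,1,false)) (Tr.leaf (0,0,false)))))))) (Tr.node (Tr.node (Tr.node (Tr.node (Tr.node (Tr.node (Tr.leaf (1,1,false)) (Tr.leaf (4,4,false))) (Tr.node (Tr.leaf (3,16,false)) (Tr.leaf (4,6,true)))) (Tr.node (Tr.node (Tr.leaf (2,13,true)) (Tr.leaf (4,22,false))) (Tr.node (Tr.leaf (3,10,true)) (Tr.leaf (4,67,true))))) (Tr.node (Tr.node (Tr.node (Tr.leaf (2,2,true)) (Tr.leaf (4,12,false))) (Tr.node (Tr.leaf (3,2,true)) (Tr.leaf (4,32,true)))) (Tr.node (Tr.node (Tr.leaf (3,7,false)) (Tr.leaf (4,43,false))) (Tr.node (Tr.leaf (3,38,true)) (Tr.leaf (0,0,false)))))) (Tr.node (Tr.node (Tr.node (Tr.node (Tr.leaf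 (2,2,false)) (Tr.leaf (4,8,false))) (Tr.node (Tr.leaf (3,60,false)) (Tr.leaf (4,14,true)))) (Tr.node (Tr.node (Tr.leaf (3,3,false)) (Tr.leaf (4,30,false))) (Tr.node (Tr.leaf (3,14,true)) (Tr.leaf (5,1,false))))) (Tr.node (Tr.node (Tr.node (Tr.leaf (2,7,true)) (Tr.leaf (4,16,false))) (Tr.node (Tr.leaf (3,6,true)) (Tr.leaf (4,48,true)))) (Tr.node (Tr.node (Tr.leaf (3,11,false)) (Tr.leaf (4,61,false))) (Tr.node (Tr.leaf (3,62,true)) (Tr.leaf (0,0,false))))))) (Tr.node (Tr.node (Tr.node (Tr.node (Tr.node (Tr.leaf (1,2,true)) (Tr.leaf (4,6,false))) (Tr.node (Tr.leaf (3,27,false)) (Tr.leaf (4,12,true)))) (Tr.node (Tr.node (Tr.leaf (3,1,false)) (Tr.leaf (4,24,false))) (Tr.node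 (Tr.leaf (3,12,true)) (Tr.leaf (0,42,false))))) (Tr.node (Tr.node (Tr.node (Tr.leaf (2,5,true)) (Tr.leaf (4,14,false))) (Tr.node (Tr.leaf (3,4,true)) (Tr.leaf (4,34,true)))) (Tr.node (Tr.node (Tr.leaf (3,9,false)) (Tr.leaf (4,49,false))) (Tr.node (Tr.leaf (3,58,true)) (Tr.leaf (0,0,false)))))) (Tr.node (Tr.node (Tr.node (Tr.node (Tr.leaf (2,0,true)) (Tr.leaf (4,10,false))) (Tr.node (Tr.leaf (3,65,false)) (Tr.leaf (4,25,true)))) (Tr.node (Tr.node (Tr.leaf (3,5,false)) (Tr.leaf (4,34,false))) (Tr.node (Tr.leaf (3,22,true)) (Tr.leaf (0,0,false))))) (Tr.node (Tr.node (Tr.node (Tr.leaf (2,10,true)) (Tr.leaf (4,19,false))) (Tr.node (Tr.leaf (3,8,true)) (Tr.leaf (4,61,true))))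 (Tr.node (Tr.node (Tr.leaf (3,13,false)) (Tr.leaf (4,4,true))) (Tr.node (Tr.leaf (4,2,false)) (Tr.leaf (0,0,false)))))))))

/-- The subgroup rotations. -/
noncomputable def srotT : Tr (List Nat × Nat × List Nat) := (Tr.leaf ([0,1,0],2,[]))

/-- The certificate. -/
noncomputable def cert : Cert :=
  mkCert 3 9869 29261 2 119 120 5 31 201 42 126 185 4398046511103 576460752303423487 15 14 32767 16383 29 28 3 ctree.get rotT.get srotT.get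

/-- The relators. -/
def rels : List (List Nat) :=
  [[0,1,0,2,0,1,0,2,0,1,0,2,0,1,0,2,0,1,0,2,0,1,0,2,0,1,0,2,0,1,0,2,0,1,0,2,0,1,0,2,0,1,0,2,0,1,0,2,0,1,0,2,0,1,0,2,0,1,0,2,0,1,0,2,0,1,0,2,0,1,0,2,0,1,0,2],
   [1,1,1],
   [0,1,0,1,0,1,0,1,0,1,0,1,0,1],
   [0,1,0,1,0,2,0,1,0,2,0,1,0,2,0,1,0,1,0,2,0,1,0,2,0,1,0,2,0,1,0,1,0,2,0,1,0,2,0,1,0,2,0,1,0,1,0,2,0,1,0,2,0,1,0,2,0,1,0,1,0,2,0,1,0,2,0,1,0,2],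
   [0,1,0,1,0,2,0,1,0,2,0,1,0,2,0,1,0,2,0,1,0,2,0,1,0,2,0,1,0,1,0,2,0,2,0,1,0,1,0,2,0,1,0,2,0,1,0,2,0,1,0,2,0,1,0,2,0,1,0,2,0,1,0,1,0,2,0,2]]

/-- The words of the subgroup. -/
def subs : List (List Nat) :=
  [[0,1,0,2]]

end Cfsg.Agent.Lib.CosetCert.D.OnJ1.Dg.Tab
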